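import Mathlib

/-!
# Exterior powers as retracts of tensor products
-/

set_option autoImplicit false
universe u v

noncomputable section

namespace ExtRetractLib

variable {R : Type u} [CommRing R] {M A B T : Type v} [AddCommGroup M] [Module R M] [AddCommGroup A] [Module R A]
  [AddCommGroup B] [Module R B] [AddCommGroup T] [Module R T] {j : ℕ}

/-- Wedging with a vector. -/
def bil (R : Type u) [CommRing R] (M : Type v) [AddCommGroup M] [Module R M] (j : ℕ) :
    M →ₗ[R] ↥(⋀[R]^j M) →ₗ[R] ↥(⋀[R]^(j + 1) M) :=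
  exteriorPower.alternatingMapLinearEquiv.toLinearMap ∘ₗ (exteriorPower.ιMulti R (j + 1) (M := M)).curryLeft

theorem bil_ιMulti (m : M) (v : Fin j → M) :
    bil R M j m (exteriorPower.ιMulti R j v) = exteriorPower.ιMulti R (j + 1) (Matrix.vecCons m v) := by
  simp [bil]

/-- The alternating sum over the removed vector. -/
def split (φA : A ≃ₗ[R] ↥(⋀[R]^j M)) (sh : M →ₗ[R] A →ₗ[R] T) : ↥(⋀[R]^(j + 1) M) →ₗ[R] T :=
  exteriorPower.alternatingMapLinearEquiv (AlternatingMap.alternatizeUncurryFin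
    (exteriorPower.alternatingMapLinearEquiv.symm.toLinearMap ∘ₗ (sh.compl₂ φA.symm.toLinearMap)))

theorem split_ιMulti (φA : A ≃ₗ[R] ↥(⋀[R]^j M)) (sh : M →ₗ[R] A →ₗ[R] T) (v : Fin (j + 1) → M) :
    split φA sh (exteriorPower.ιMulti R (j + 1) v) = ∑ i : Fin (j + 1), (-1) ^ (i : ℕ) •
      sh (v i) (φA.symm (exteriorPower.ιMulti R j (Fin.removeNth i v))) := by
  simp [split, AlternatingMap.alternatizeUncurryFin_apply]

/-- Multiplication, on a tensor product. -/
def mult (φA : A ≃ₗ[R] ↥(⋀[R]^j M)) (φB : B ≃ₗ[R] ↥(⋀[R]^(j + 1) M)) (sh : M →ₗ[R] A →ₗ[R] T)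
    (hsh : Function.Bijective (TensorProduct.lift sh)) : T →ₗ[R] B :=
  φB.symm.toLinearMap ∘ₗ TensorProduct.lift ((bil R M j).compl₂ φA.toLinearMap) ∘ₗ
    (LinearEquiv.ofBijective _ hsh).symm.toLinearMap

theorem mult_sh (φA : A ≃ₗ[R] ↥(⋀[R]^j M)) (φB : B ≃ₗ[R] ↥(⋀[R]^(j + 1) M)) (sh : M →ₗ[R] A →ₗ[R] T)
    (hsh : Function.Bijective (TensorProduct.lift sh)) (m : M) (a : A) :
    mult φA φB sh hsh (sh m a) = φB.symm (bil R M j m (φA a)) := by
  have h : (LinearEquiv.ofBijective _ hsh).symm (sh m a) = TensorProduct.tmul R m a :=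
    (LinearEquiv.ofBijective _ hsh).symm_apply_eq.2 (TensorProduct.lift.tmul (f' := sh) m a).symm
  simp [mult, h]

theorem mult_split (φA : A ≃ₗ[R] ↥(⋀[R]^j M)) (φB : B ≃ₗ[R] ↥(⋀[R]^(j + 1) M)) (sh : M →ₗ[R] A →ₗ[R] T)
    (hsh : Function.Bijective (TensorProduct.lift sh)) (x : B) :
    mult φA φB sh hsh (split φA sh (φB x)) = (j + 1) • x := by
  suffices h : (mult φA φB sh hsh ∘ₗ split φA sh) = (j + 1) • φB.symm.toLinearMap by
    have := LinearMap.congr_fun h (φB x)
    simpa using this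
  refine exteriorPower.linearMap_ext ?_
  ext v
  simp only [LinearMap.compAlternatingMap_apply, LinearMap.comp_apply, split_ιMulti, map_sum, map_zsmul,
    LinearMap.map_smul_of_tower, mult_sh, LinearEquiv.apply_symm_apply, bil_ιMulti, LinearMap.smul_apply,
    LinearEquiv.coe_coe]
  rw [← map_nsmul]
  simp only [← map_zsmul φB.symm, ← map_sum]
  congr 1
  have h : AlternatingMap.alternatizeUncurryFin (exteriorPower.ιMulti R (j + 1) (M := M)).curryLeft v =
      ((j + 1) • exteriorPower.ιMulti R (j + 1) (M := M)) v := by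
    rw [AlternatingMap.alternatizeUncurryFin_curryLeft]
  rw [AlternatingMap.alternatizeUncurryFin_apply] at h
  exact h

/-- The splitting is natural. -/
theorem split_natural {S : Type u} [CommRing S] {σ : R →+* S} {M' A' B' T' : Type v} [AddCommGroup M'] [Module S M']
    [AddCommGroup A'] [Module S A'] [AddCommGroup B'] [Module S B'] [AddCommGroup T'] [Module S T']
    (φA : A ≃ₗ[R] ↥(⋀[R]^j M)) (φB : B ≃ₗ[R] ↥(⋀[R]^(j + 1) M)) (sh : M →ₗ[R] A →ₗ[R] T)
    (φA' : A' ≃ₗ[S] ↥(⋀[S]^j M')) (φB' : B' ≃ₗ[S] ↥(⋀[S]^(j + 1) M')) (sh' : M' →ₗ[S] A' →ₗ[S] T')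
    (rM : M → M') (rA : A →ₛₗ[σ] A') (rB : B →ₛₗ[σ] B') (rT : T →ₛₗ[σ] T')
    (hA : ∀ v, rA (φA.symm (exteriorPower.ιMulti R j v)) = φA'.symm (exteriorPower.ιMulti S j fun i => rM (v i)))
    (hB : ∀ v, rB (φB.symm (exteriorPower.ιMulti R (j + 1) v)) =
      φB'.symm (exteriorPower.ιMulti S (j + 1) fun i => rM (v i)))
    (hT : ∀ m a, rT (sh m a) = sh' (rM m) (rA a)) (x : B) :
    rT (split φA sh (φB x)) = split φA' sh' (φB' (rB x)) := by
  obtain ⟨y, rfl⟩ := φB.symm.surjective x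
  rw [LinearEquiv.apply_symm_apply]
  have hy : y ∈ Submodule.span R (Set.range (exteriorPower.ιMulti R (j + 1) (M := M))) :=
    exteriorPower.ιMulti_span R (j + 1) M ▸ Submodule.mem_top
  induction hy using Submodule.span_induction with
  | mem y hy =>
    obtain ⟨v, rfl⟩ := hy
    rw [hB, LinearEquiv.apply_symm_apply, split_ιMulti, split_ιMulti, map_sum]
    refine Finset.sum_congr rfl fun i _ => ?_
    rw [map_zsmul, hT, hA]
    rfl
  | zero => simp
  | add a b _ _ ha hb => simp [ha, hb]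
  | smul r a _ ha => simp [ha]

/-- The multiplication is natural. -/
theorem mult_natural {S : Type u} [CommRing S] {σ : R →+* S} {M' A' B' T' : Type v} [AddCommGroup M'] [Module S M']
    [AddCommGroup A'] [Module S A'] [AddCommGroup B'] [Module S B'] [AddCommGroup T'] [Module S T']
    (φA : A ≃ₗ[R] ↥(⋀[R]^j M)) (φB : B ≃ₗ[R] ↥(⋀[R]^(j + 1) M)) (sh : M →ₗ[R] A →ₗ[R] T)
    (hsh : Function.Bijective (TensorProduct.lift sh))
    (φA' : A' ≃ₗ[S] ↥(⋀[S]^j M')) (φB' : B' ≃ₗ[S] ↥(⋀[S]^(j + 1) M')) (sh' : M' →ₗ[S] A' →ₗ[S] T')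
    (hsh' : Function.Bijective (TensorProduct.lift sh'))
    (rM : M → M') (rA : A →ₛₗ[σ] A') (rB : B →ₛₗ[σ] B') (rT : T →ₛₗ[σ] T')
    (hA : ∀ v, rA (φA.symm (exteriorPower.ιMulti R j v)) = φA'.symm (exteriorPower.ιMulti S j fun i => rM (v i)))
    (hB : ∀ v, rB (φB.symm (exteriorPower.ιMulti R (j + 1) v)) =
      φB'.symm (exteriorPower.ιMulti S (j + 1) fun i => rM (v i)))
    (hT : ∀ m a, rT (sh m a) = sh' (rM m) (rA a)) (t : T) :
    rB (mult φA φB sh hsh t) = mult φA' φB' sh' hsh' (rT t) := by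
  obtain ⟨z, rfl⟩ := hsh.2 t
  induction z using TensorProduct.induction_on with
  | zero => simp
  | add a b ha hb => simp [ha, hb]
  | tmul m a =>
    rw [TensorProduct.lift.tmul, mult_sh, hT, mult_sh]
    obtain ⟨y, rfl⟩ := φA.symm.surjective a
    rw [LinearEquiv.apply_symm_apply]
    have hy : y ∈ Submodule.span R (Set.range (exteriorPower.ιMulti R j (M := M))) :=
      exteriorPower.ιMulti_span R j M ▸ Submodule.mem_top
    induction hy using Submodule.span_induction with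
    | mem y hy =>
      obtain ⟨v, rfl⟩ := hy
      rw [hA, LinearEquiv.apply_symm_apply, bil_ιMulti, bil_ιMulti, hB]
      congr 2
      funext i
      refine Fin.cases ?_ (fun i => ?_) i <;> rfl
    | zero => simp
    | add a b _ _ ha hb => simp [ha, hb]
    | smul r a _ ha => simp [ha]

end ExtRetractLib

end
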