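import Groth.Agent.ExtRetractLib.Main
import Groth.Agent.EllSecLib.BiReg
import Groth.Agent.NodalLib.DefAmple
import Groth.Agent.HodgePnLib.Seq

/-!
# Regularity of exterior powers on the quadric
-/

set_option autoImplicit false
set_option maxHeartbeats 1000000
set_option linter.style.haveILetI false
set_option backward.isDefEq.respectTransparency false
set_option backward.isDefEq.respectTransparency.types false
universe u

open CategoryTheory CategoryTheory.Limits AlgebraicGeometry TopologicalSpace Opposite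
open HilbPolyLib QuadKerLib
open W4c3multigrregular (biProj twistBi IsBiReg)

noncomputable section

namespace ExtRetractLib

variable {k : Type u} [Field k] [CharZero k]

attribute [local instance] QuadKerLib.overX

theorem isUnit_nat (n : ℕ) (hn : n ≠ 0) : IsUnit ((n : ℕ) : Γ(X k, ⊤)) := by
  let φ : k →+* Γ(X k, ⊤) :=
    (((X k) ↘ Spec (CommRingCat.of k)).appTop).hom.comp (Scheme.ΓSpecIso (CommRingCat.of k)).inv.hom
  rw [← map_natCast φ n]
  exact (isUnit_iff_ne_zero.2 (Nat.cast_ne_zero.2 hn)).map φ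

theorem sub_retract {M N : (X k).Modules} (i : M ⟶ N) (p : N ⟶ M) (h : i ≫ p = 𝟙 M) (q : ℕ)
    (hN : Subsingleton (Coh.HH (X k) N q)) : Subsingleton (Coh.HH (X k) M q) := by
  refine ⟨fun x y => ?_⟩
  have key : ∀ z : Coh.HH (X k) M q, Sheaf.H.map ((QCohLib.toAbF (X k)).map p) q
      (Sheaf.H.map ((QCohLib.toAbF (X k)).map i) q z) = z := fun z => by
    rw [← Sheaf.H.map_comp_apply, ← Functor.map_comp, h, CategoryTheory.Functor.map_id, Sheaf.H.map_id_apply]
  rw [← key x, ← key y]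
  exact congrArg _ (@Subsingleton.elim _ hN _ _)

/-- The twist of a morphism. -/
def tw {M N : (X k).Modules} (i : M ⟶ N) (a b : ℤ) :
    twistBi 1 1 k M a b ⟶ twistBi 1 1 k N a b :=
  ((DCoh.tensorBi (X := X k)).map i).app (bi k a b)

theorem tw_comp {M N : (X k).Modules} (i : M ⟶ N) (p : N ⟶ M) (h : i ≫ p = 𝟙 M) (a b : ℤ) :
    tw i a b ≫ tw p a b = 𝟙 _ := by
  rw [tw, tw, ← NatTrans.comp_app, ← Functor.map_comp, h, CategoryTheory.Functor.map_id]
  rfl

/-- Regularity and generation descend to retracts. -/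
theorem reg_retract {M N : (X k).Modules} (i : M ⟶ N) (p : N ⟶ M) (h : i ≫ p = 𝟙 M) (a b : ℤ)
    (hreg : IsBiReg 1 1 k N a b) (hgg : Curv2.IsGloballyGenerated (twistBi 1 1 k N a b)) :
    IsBiReg 1 1 k M a b ∧ Curv2.IsGloballyGenerated (twistBi 1 1 k M a b) := by
  refine ⟨fun u₁ u₂ hu => sub_retract _ _ (tw_comp i p h _ _) _ (hreg u₁ u₂ hu), ?_⟩
  obtain ⟨ι, q, hq⟩ := hgg
  haveI := hq
  haveI : IsSplitEpi (tw p a b) := IsSplitEpi.mk' ⟨tw i a b, tw_comp i p h a b⟩
  exact ⟨ι, q ≫ tw p a b, epi_comp _ _⟩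

theorem reg_iso {M N : (X k).Modules} (e : M ≅ N) (a b : ℤ)
    (h : IsBiReg 1 1 k N a b ∧ Curv2.IsGloballyGenerated (twistBi 1 1 k N a b)) :
    IsBiReg 1 1 k M a b ∧ Curv2.IsGloballyGenerated (twistBi 1 1 k M a b) :=
  reg_retract e.hom e.inv e.hom_inv_id a b h.1 h.2

theorem reg_structure :
    IsBiReg 1 1 k (Coh.structureModule (X k)) 0 0 ∧
      Curv2.IsGloballyGenerated (twistBi 1 1 k (Coh.structureModule (X k)) 0 0) := by
  refine ⟨fun u₁ u₂ hu => HdgLefLib.sub_iso (unitLeft _).symm _ ?_, ?_⟩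
  · rcases Nat.lt_or_ge (u₁ + u₂) 2 with h2 | h2
    · obtain h1 : u₁ + u₂ = 1 := by omega
      rw [h1]
      exact sub1 k _ _ (by omega) (by omega)
    · rcases Nat.lt_or_ge (u₁ + u₂) 3 with h3 | h3
      · obtain h2' : u₁ + u₂ = 2 := by omega
        rw [h2']
        exact sub2 k _ _ (by omega)
      · haveI := isProper_X k
        haveI := CurvLib.isNoetherian k (X := X k)
        exact CurvLib.subsingleton_HH_of_dim_le _ EllSecLib.dim_quadric _ (by omega)
  · obtain ⟨e⟩ := nonempty_bi_zero k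
    exact MiscFlat6.isGloballyGenerated_of_iso ((unitLeft _) ≪≫ e).symm NodalLib.gg_unit

/-- **Exterior powers of a regular generated bundle are regular.** -/
theorem reg_extPow (G : (biProj 1 1 k).Modules) (hG : FlatMod.IsFinLocFree G) (p q : ℤ)
    (hreg : IsBiReg 1 1 k G p q) (hgg : Curv2.IsGloballyGenerated (twistBi 1 1 k G p q)) :
    ∀ (j : ℕ) (L : (biProj 1 1 k).Modules), ExtPow.IsExtPow j G L →
      IsBiReg 1 1 k L (j * p) (j * q) ∧ Curv2.IsGloballyGenerated (twistBi 1 1 k L (j * p) (j * q)) := by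
  intro j
  haveI := isLN_X k
  induction j with
  | zero =>
    intro L hL
    obtain ⟨e⟩ := ExtPowLib.nonempty_iso hL (HodgePnLib.isExtPow_zero G)
    rw [Nat.cast_zero, zero_mul, zero_mul]
    exact reg_iso e 0 0 reg_structure
  | succ j ih =>
    intro L' hL'
    obtain ⟨L, hLf, hL⟩ := ExtPowLib.exists_isExtPow_vb hG j
    obtain ⟨h1, h2⟩ := ih L hL
    obtain ⟨i, r, hir⟩ := exists_retract hG hL hL' hLf (isUnit_nat (j + 1) (Nat.succ_ne_zero j))
    have hp : ((j + 1 : ℕ) : ℤ) * p = p + (j : ℤ) * p := by push_cast; ring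
    have hq : ((j + 1 : ℕ) : ℤ) * q = q + (j : ℤ) * q := by push_cast; ring
    rw [hp, hq]
    refine reg_retract i r hir _ _ (EllSecLib.isBiReg_tensor G L hG hLf p q _ _ hreg h1 hgg h2) ?_
    obtain ⟨e⟩ := nonempty_bi_add k p q ((j : ℤ) * p) ((j : ℤ) * q)
    exact MiscFlat6.isGloballyGenerated_of_iso (EllSecLib.midSwap G (bi k p q) L (bi k (j * p) (j * q)) ≪≫ congrRight _ e)
      (NodalLib.gg_tensor hgg h2)

end ExtRetractLib

end
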