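import Groth.Agent.ExtRetractLib.Alg
import Groth.Agent.WedgeLib.FiltTools
import Groth.Agent.ExtPowLib.Sheaf

/-!
# Exterior powers are retracts of tensor products in characteristic prime to the degree
-/

set_option autoImplicit false
set_option maxHeartbeats 1000000
set_option linter.style.haveILetI false
set_option backward.isDefEq.respectTransparency false
set_option backward.isDefEq.respectTransparency.types false
universe u

open CategoryTheory CategoryTheory.Limits TopologicalSpace Opposite AlgebraicGeometry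
open ProjFormLib (IsFrame)

noncomputable section

namespace ExtRetractLib

variable {X : Scheme.{u}}

/-- The semilinear restriction. -/
def rS (M : X.Modules) {U V : X.Opens} (h : V ≤ U) :
    Γ(M, U) →ₛₗ[(X.presheaf.map (homOfLE h).op).hom] Γ(M, V) where
  toFun s := AmpleLib.res M h s
  map_add' s t := map_add (M.presheaf.map (homOfLE h).op).hom s t
  map_smul' c s := AmpleLib.res_smul M h c s

theorem rS_apply (M : X.Modules) {U V : X.Opens} (h : V ≤ U) (s : Γ(M, U)) : rS M h s = AmpleLib.res M h s := rfl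

/-- **`⋀^(j+1) G` is a retract of `G ⊗ ⋀^j G` when `j + 1` is invertible.** -/
theorem exists_retract {G L L' : X.Modules} {j : ℕ} (hG : FlatMod.IsFinLocFree G)
    (hL : ExtPow.IsExtPow j G L) (hL' : ExtPow.IsExtPow (j + 1) G L') (hLf : FlatMod.IsFinLocFree L)
    (hu : IsUnit ((j + 1 : ℕ) : Γ(X, ⊤))) :
    ∃ (i : L' ⟶ CohB1.tensorMod G L) (r : CohB1.tensorMod G L ⟶ L'), i ≫ r = 𝟙 L' := by
  obtain ⟨φA, hA⟩ := hL
  obtain ⟨φB, hB⟩ := hL'
  obtain ⟨c₀, hc₀⟩ := hu.exists_left_inv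
  let c : ∀ U : X.Opens, Γ(X, U) := fun U => X.presheaf.map (homOfLE (le_top : U ≤ ⊤)).op c₀
  have hc : ∀ U : X.Opens, c U * ((j + 1 : ℕ) : Γ(X, U)) = 1 := fun U => by
    rw [← map_natCast (X.presheaf.map (homOfLE (le_top : U ≤ ⊤)).op).hom, ← map_mul, hc₀, map_one]
  have hcV : ∀ {U V : X.Opens} (h : V ≤ U), X.presheaf.map (homOfLE h).op (c U) = c V := fun {U V} h => by
    rw [← CategoryTheory.ConcreteCategory.comp_apply, ← Functor.map_comp, ← op_comp, homOfLE_comp]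
  let P : X.affineOpens → Prop := fun U => ∃ (U₀ : X.Opens) (a b : ℕ) (e : Fin a → Γ(G, U₀)) (d : Fin b → Γ(L, U₀)),
    IsFrame G e ∧ IsFrame L d ∧ U.1 ≤ U₀
  have hP : ∀ (W : X.Opens) (x : X), x ∈ W → ∃ A : X.affineOpens, P A ∧ x ∈ A.1 ∧ A.1 ≤ W := by
    intro W x hx
    obtain ⟨U₁, a, e, hx₁, he⟩ := ProjFormLib.exists_frame hG x
    obtain ⟨U₂, b, d, hx₂, hd⟩ := ProjFormLib.exists_frame hLf x
    obtain ⟨A, hA', hxA, hle⟩ := exists_isAffineOpen_mem_and_subset (X := X) (x := x) (U := W ⊓ (U₁ ⊓ U₂))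
      ⟨hx, hx₁, hx₂⟩
    exact ⟨⟨A, hA'⟩, ⟨U₁ ⊓ U₂, a, b, _, _, he.res inf_le_left, hd.res inf_le_right, hle.trans inf_le_right⟩, hxA,
      hle.trans inf_le_left⟩
  have hbij : ∀ U : X.affineOpens, P U → Function.Bijective (TensorProduct.lift (WedgeLib.shTBil G L U.1)) := by
    rintro U ⟨U₀, a, b, e, d, he, hd, hU⟩
    exact WedgeLib.lift_shT_bijective he hd hU
  have hT : ∀ (U V : X.affineOpens) (h : V.1 ≤ U.1) (m : Γ(G, U.1)) (x : Γ(L, U.1)),
      rS _ h (WedgeLib.shTBil G L U.1 m x) = WedgeLib.shTBil G L V.1 (rS G h m) (rS L h x) :=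
    fun U V h m x => by
      show AmpleLib.res (CohB1.tensorMod G L) h (WedgeLib.shTBil G L U.1 m x) = _
      simp only [WedgeLib.shTBil, LinearMap.mk₂_apply]
      simp only [rS_apply]
      first | exact AmpleLib.shT_res h m x | exact (AmpleLib.shT_res h m x).symm
  let fs : ∀ U : X.affineOpens, Γ(L', U.1) →ₗ[Γ(X, U.1)] Γ(CohB1.tensorMod G L, U.1) := fun U =>
    c U.1 • (split (R := Γ(X, U.1)) (M := Γ(G, U.1)) (φA U) (WedgeLib.shTBil G L U.1) ∘ₗ (φB U).toLinearMap)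
  obtain ⟨i, hi⟩ := WedgeLib.exists_hom_on P hP (fun U _ => fs U) fun U V _ _ h t => by
    refine Eq.trans (AmpleLib.res_smul _ h _ _) ?_
    refine congrArg₂ (· • ·) (hcV h) ?_
    exact split_natural (R := Γ(X, U.1)) (M := Γ(G, U.1)) (M' := Γ(G, V.1)) (φA U) (φB U) _ (φA V) (φB V) _
      (fun m => rS G h m) (rS L h) (rS L' h) (rS _ h) (fun v => hA U V h v) (fun v => hB U V h v) (hT U V h) t
  let fr : ∀ U : X.affineOpens, P U → (Γ(CohB1.tensorMod G L, U.1) →ₗ[Γ(X, U.1)] Γ(L', U.1)) := fun U hU =>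
    mult (R := Γ(X, U.1)) (M := Γ(G, U.1)) (φA U) (φB U) (WedgeLib.shTBil G L U.1) (hbij U hU)
  obtain ⟨r, hr⟩ := WedgeLib.exists_hom_on P hP fr fun U V hU hV h t =>
    mult_natural (R := Γ(X, U.1)) (M := Γ(G, U.1)) (M' := Γ(G, V.1)) (φA U) (φB U) _ (hbij U hU) (φA V) (φB V) _
      (hbij V hV) (fun m => rS G h m) (rS L h) (rS L' h) (rS _ h) (fun v => hA U V h v) (fun v => hB U V h v)
      (hT U V h) t
  refine ⟨i, r, Scheme.Modules.hom_ext _ _ fun W => ConcreteCategory.hom_ext _ _ fun t => ?_⟩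
  refine WedgeLib.ext_on P hP _ _ fun V hV hVW => ?_
  change L'.presheaf.map (homOfLE hVW).op (r.app W (i.app W t)) = L'.presheaf.map (homOfLE hVW).op t
  rw [← QCohLib.app_map r (homOfLE hVW), ← QCohLib.app_map i (homOfLE hVW), hi V hV, hr V hV]
  refine Eq.trans (map_smul (fr V hV) (c V.1) _) ?_
  refine Eq.trans (congrArg (c V.1 • ·) (mult_split (R := Γ(X, V.1)) (M := Γ(G, V.1)) (φA V) (φB V) _ _ _)) ?_
  rw [← Nat.cast_smul_eq_nsmul Γ(X, V.1), smul_smul, hc, one_smul]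

end ExtRetractLib

end
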